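import Cfsg.Agent.H533.Reg.Ev
import Cfsg.Agent.S2148
import Cfsg.Agent.S2150
import Cfsg.Agent.S2151
import Cfsg.Agent.S2152

/-!
# S3691, `PSU_N(q)`, `3 ≤ N ≤ 8`: one factor contains the stabiliser of a nonsingular vector (helper533)

* `index_le` : `|PSU_N(q) : Y0| ≤ 2 f |X^|`, `X^` the preimage of `X0` in `SU_N(q)`
* `odd_false` : `N = 3, 5, 7` impossible
* `even_res` : `N = 4, 6, 8`
-/

set_option autoImplicit false
set_option linter.unusedSectionVars false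

namespace Cfsg.Agent.H533.Reg

open Module Cfsg Cfsg.Geo Cfsg.Agent.LieClassical.HermBasic Cfsg.Agent.H918 Cfsg.Agent.H251.GeoU Cfsg.Agent.H89.Reg
open Cfsg.Agent.H454.Reg
open Cfsg.Agent.H674.SUBlock (pr pr_surjective)
open Cfsg.Agent.LieClassical.HermSiegel (act mat act_mul act_one act_inv_act act_act_inv herm_act act_smul act_add)

universe u

section num

/-- `2 ^ f ≤ q` -/
theorem two_pow_le {p f : ℕ} (hp : p.Prime) : 2 ^ f ≤ p ^ f := Nat.pow_le_pow_left hp.two_le f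

theorem f_lt {p f : ℕ} (hp : p.Prime) : f < p ^ f := Nat.lt_pow_self hp.one_lt

theorem f18 {p f : ℕ} (hp : p.Prime) (hq : 124 < p ^ f) : 18 * f < p ^ f + 1 := by
  by_cases hf : f ≤ 6
  · omega
  · obtain ⟨k, rfl⟩ : ∃ k, f = 7 + k := ⟨f - 7, by omega⟩
    have h1 := two_pow_le (f := 7 + k) hp
    have h2 : 18 * (7 + k) < 2 ^ (7 + k) + 1 := by
      clear hq hf h1
      induction k with
      | zero => norm_num
      | succ k ih =>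
        have h3 : 2 ^ (7 + (k + 1)) = 2 * 2 ^ (7 + k) := by ring
        have h4 : 2 ^ 7 ≤ 2 ^ (7 + k) := Nat.pow_le_pow_right (by norm_num) (by omega)
        rw [h3]
        omega
    omega

/-- the index of `S2151`, `n = 5` -/
theorem ix5 {q : ℕ} (hq : 2 ≤ q) : (q ^ 5 + 1) * (q ^ (5 - 1) - 1) / (q ^ 2 - 1) = (q ^ 5 + 1) * (q ^ 2 + 1) := by
  have h1 : q ^ (5 - 1) - 1 = (q ^ 2 + 1) * (q ^ 2 - 1) := by
    have := Nat.sq_sub_sq (q ^ 2) 1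
    rw [one_pow] at this
    rw [← this]
    norm_num
    congr 1
    ring
  rw [h1, ← mul_assoc]
  apply Nat.mul_div_cancel
  have : 2 ^ 2 ≤ q ^ 2 := Nat.pow_le_pow_left hq 2
  omega

/-- the index of `S2151`, `n = 7` -/
theorem ix7 {q : ℕ} (hq : 2 ≤ q) : (q ^ 7 + 1) * (q ^ (7 - 1) - 1) / (q ^ 2 - 1) = (q ^ 7 + 1) * (q ^ 4 + q ^ 2 + 1) := by
  have h0 : 2 ^ 2 ≤ q ^ 2 := Nat.pow_le_pow_left hq 2
  have h1 : q ^ (7 - 1) - 1 = (q ^ 4 + q ^ 2 + 1) * (q ^ 2 - 1) := by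
    obtain ⟨a, ha⟩ : ∃ a, q ^ 2 = a + 1 := ⟨q ^ 2 - 1, by omega⟩
    rw [show q ^ (7 - 1) = (q ^ 2) ^ 3 by ring, show q ^ 4 = (q ^ 2) ^ 2 by ring, ha, Nat.add_sub_cancel]
    have : (a + 1) ^ 3 = ((a + 1) ^ 2 + (a + 1) + 1) * a + 1 := by ring
    rw [this, Nat.add_sub_cancel]
  rw [h1, ← mul_assoc]
  apply Nat.mul_div_cancel
  omega

/-- the index of `S2152`, `n = 6` -/
theorem ix6 {q : ℕ} (hq : 2 ≤ q) : (q ^ 6 - 1) * (q ^ (6 - 1) + 1) / (q ^ 2 - 1) = (q ^ 5 + 1) * (q ^ 4 + q ^ 2 + 1) := by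
  have h0 : 2 ^ 2 ≤ q ^ 2 := Nat.pow_le_pow_left hq 2
  have h1 : q ^ 6 - 1 = (q ^ 4 + q ^ 2 + 1) * (q ^ 2 - 1) := by
    obtain ⟨a, ha⟩ : ∃ a, q ^ 2 = a + 1 := ⟨q ^ 2 - 1, by omega⟩
    rw [show q ^ 6 = (q ^ 2) ^ 3 by ring, show q ^ 4 = (q ^ 2) ^ 2 by ring, ha, Nat.add_sub_cancel]
    have : (a + 1) ^ 3 = ((a + 1) ^ 2 + (a + 1) + 1) * a + 1 := by ring
    rw [this, Nat.add_sub_cancel]
  rw [h1, show (q ^ 4 + q ^ 2 + 1) * (q ^ 2 - 1) * (q ^ (6 - 1) + 1) = (q ^ 5 + 1) * (q ^ 4 + q ^ 2 + 1) * (q ^ 2 - 1) by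
    norm_num; ring]
  apply Nat.mul_div_cancel
  omega

/-- the index of `S2152`, `n = 8` -/
theorem ix8 {q : ℕ} (hq : 2 ≤ q) :
    (q ^ 8 - 1) * (q ^ (8 - 1) + 1) / (q ^ 2 - 1) = (q ^ 7 + 1) * (q ^ 6 + q ^ 4 + q ^ 2 + 1) := by
  have h0 : 2 ^ 2 ≤ q ^ 2 := Nat.pow_le_pow_left hq 2
  have h1 : q ^ 8 - 1 = (q ^ 6 + q ^ 4 + q ^ 2 + 1) * (q ^ 2 - 1) := by
    obtain ⟨a, ha⟩ : ∃ a, q ^ 2 = a + 1 := ⟨q ^ 2 - 1, by omega⟩
    rw [show q ^ 8 = (q ^ 2) ^ 4 by ring, show q ^ 6 = (q ^ 2) ^ 3 by ring, show q ^ 4 = (q ^ 2) ^ 2 by ring, ha,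
      Nat.add_sub_cancel]
    have : (a + 1) ^ 4 = ((a + 1) ^ 3 + (a + 1) ^ 2 + (a + 1) + 1) * a + 1 := by ring
    rw [this, Nat.add_sub_cancel]
  rw [h1, show (q ^ 6 + q ^ 4 + q ^ 2 + 1) * (q ^ 2 - 1) * (q ^ (8 - 1) + 1) =
    (q ^ 7 + 1) * (q ^ 6 + q ^ 4 + q ^ 2 + 1) * (q ^ 2 - 1) by norm_num; ring]
  apply Nat.mul_div_cancel
  omega

theorem num3 {Q f c : ℕ} (h18 : 18 * f < Q + 1) (hq : 124 < Q) (hi : Q ^ 3 + 1 ≤ 2 * f * c)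
    (h : (Q + 1) * c ≤ 3 ^ 2 * (Q ^ 3 + 1) ∨ (f = 1 ∧ c ≤ 4320)) : False := by
  rcases h with h | ⟨rfl, h⟩
  · have h1 : (Q + 1) * (Q ^ 3 + 1) ≤ 18 * f * (Q ^ 3 + 1) := by
      calc (Q + 1) * (Q ^ 3 + 1) ≤ (Q + 1) * (2 * f * c) := Nat.mul_le_mul_left _ hi
        _ = 2 * f * ((Q + 1) * c) := by ring
        _ ≤ 2 * f * (3 ^ 2 * (Q ^ 3 + 1)) := Nat.mul_le_mul_left _ h
        _ = _ := by ring
    have h2 := Nat.le_of_mul_le_mul_right h1 (Nat.succ_pos _)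
    omega
  · have h1 : 125 ^ 3 ≤ Q ^ 3 := Nat.pow_le_pow_left hq 3
    omega

theorem num5 {Q f c : ℕ} (hff : f < Q) (hq : 20 < Q) (hi : (Q ^ 5 + 1) * (Q ^ 2 + 1) ≤ 2 * f * c)
    (h : (Q + 1) * c ≤ 5 ^ 2 * (Q ^ 5 + 1) ∨ (f = 1 ∧ c ≤ 259200)) : False := by
  rcases h with h | ⟨rfl, h⟩
  · have h1 : ((Q + 1) * (Q ^ 2 + 1)) * (Q ^ 5 + 1) ≤ 50 * f * (Q ^ 5 + 1) := by
      calc ((Q + 1) * (Q ^ 2 + 1)) * (Q ^ 5 + 1)
          = (Q + 1) * ((Q ^ 5 + 1) * (Q ^ 2 + 1)) := by ring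
        _ ≤ (Q + 1) * (2 * f * c) := Nat.mul_le_mul_left _ hi
        _ = 2 * f * ((Q + 1) * c) := by ring
        _ ≤ 2 * f * (5 ^ 2 * (Q ^ 5 + 1)) := Nat.mul_le_mul_left _ h
        _ = _ := by ring
    have h2 := Nat.le_of_mul_le_mul_right h1 (Nat.succ_pos _)
    have h3 : 21 ^ 2 ≤ Q ^ 2 := Nat.pow_le_pow_left hq 2
    have h4 : (Q + 1) * (21 ^ 2 + 1) ≤ (Q + 1) * (Q ^ 2 + 1) := Nat.mul_le_mul_left _ (by omega)
    omega
  · have h1 : 21 ^ 5 ≤ Q ^ 5 := Nat.pow_le_pow_left hq 5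
    have h2 : (21 ^ 5 + 1) * 1 ≤ (Q ^ 5 + 1) * (Q ^ 2 + 1) := Nat.mul_le_mul (by omega) (by omega)
    omega

theorem num7 {Q f c : ℕ} (hff : f < Q) (hq : 4 < Q) (hi : (Q ^ 7 + 1) * (Q ^ 4 + Q ^ 2 + 1) ≤ 2 * f * c)
    (h : (Q + 1) * c ≤ 7 ^ 2 * (Q ^ 7 + 1) ∨ (f = 1 ∧ c ≤ 84672)) : False := by
  rcases h with h | ⟨rfl, h⟩
  · have h1 : ((Q + 1) * (Q ^ 4 + Q ^ 2 + 1)) * (Q ^ 7 + 1) ≤ 98 * f * (Q ^ 7 + 1) := by
      calc ((Q + 1) * (Q ^ 4 + Q ^ 2 + 1)) * (Q ^ 7 + 1)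
          = (Q + 1) * ((Q ^ 7 + 1) * (Q ^ 4 + Q ^ 2 + 1)) := by ring
        _ ≤ (Q + 1) * (2 * f * c) := Nat.mul_le_mul_left _ hi
        _ = 2 * f * ((Q + 1) * c) := by ring
        _ ≤ 2 * f * (7 ^ 2 * (Q ^ 7 + 1)) := Nat.mul_le_mul_left _ h
        _ = _ := by ring
    have h2 := Nat.le_of_mul_le_mul_right h1 (Nat.succ_pos _)
    have h3 : 5 ^ 4 ≤ Q ^ 4 := Nat.pow_le_pow_left hq 4
    have h4 : (Q + 1) * (5 ^ 4 + 1) ≤ (Q + 1) * (Q ^ 4 + Q ^ 2 + 1) :=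
      Nat.mul_le_mul_left _ (by omega)
    omega
  · have h1 : 5 ^ 7 ≤ Q ^ 7 := Nat.pow_le_pow_left hq 7
    have h3 : 5 ^ 4 ≤ Q ^ 4 := Nat.pow_le_pow_left hq 4
    have h2 : (5 ^ 7 + 1) * (5 ^ 4 + 1) ≤ (Q ^ 7 + 1) * (Q ^ 4 + Q ^ 2 + 1) := Nat.mul_le_mul (by omega) (by omega)
    omega

theorem num6 {Q f c : ℕ} (hff : f < Q) (hq : 7 < Q) (h0 : (Q ^ 5 + 1) * (Q ^ 4 + Q ^ 2 + 1) ≤ 2 * f * ((Q + 1) * c))
    (h : (Q + 1) * c ≤ 5 ^ 2 * (Q ^ 5 + 1) ∨ (f = 1 ∧ c ≤ 259200)) : False := by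
  rcases h with h | ⟨rfl, h⟩
  · have h1 : (Q ^ 4 + Q ^ 2 + 1) * (Q ^ 5 + 1) ≤ 50 * f * (Q ^ 5 + 1) := by
      calc (Q ^ 4 + Q ^ 2 + 1) * (Q ^ 5 + 1)
          = (Q ^ 5 + 1) * (Q ^ 4 + Q ^ 2 + 1) := by ring
        _ ≤ 2 * f * ((Q + 1) * c) := h0
        _ ≤ 2 * f * (5 ^ 2 * (Q ^ 5 + 1)) := Nat.mul_le_mul_left _ h
        _ = _ := by ring
    have h2 := Nat.le_of_mul_le_mul_right h1 (Nat.succ_pos _)
    have h3 : 8 ^ 3 ≤ Q ^ 3 := Nat.pow_le_pow_left hq 3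
    have h4 : 8 ^ 3 * Q ≤ Q ^ 4 := by
      calc 8 ^ 3 * Q ≤ Q ^ 3 * Q := Nat.mul_le_mul_right _ h3
        _ = _ := by ring
    omega
  · have h1 : 8 ^ 4 ≤ Q ^ 4 := Nat.pow_le_pow_left hq 4
    have h6 : 8 ^ 4 * Q ≤ Q ^ 5 := by
      calc 8 ^ 4 * Q ≤ Q ^ 4 * Q := Nat.mul_le_mul_right _ h1
        _ = _ := by ring
    have h7 : (8 ^ 4 * Q + 1) * (8 ^ 4 + 1) ≤ (Q ^ 5 + 1) * (Q ^ 4 + Q ^ 2 + 1) := Nat.mul_le_mul (by omega) (by omega)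
    have h8 : 2 * 1 * ((Q + 1) * c) ≤ 2 * 1 * ((Q + 1) * 259200) :=
      Nat.mul_le_mul_left _ (Nat.mul_le_mul_left _ h)
    have h9 := h7.trans (h0.trans h8)
    omega

theorem num8 {Q f c : ℕ} (hff : f < Q) (hq : 3 < Q)
    (h0 : (Q ^ 7 + 1) * (Q ^ 6 + Q ^ 4 + Q ^ 2 + 1) ≤ 2 * f * ((Q + 1) * c))
    (h : (Q + 1) * c ≤ 7 ^ 2 * (Q ^ 7 + 1) ∨ (f = 1 ∧ c ≤ 84672)) : False := by
  have h46 : 4 ^ 6 ≤ Q ^ 6 := Nat.pow_le_pow_left hq 6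
  have h56 : 4 ^ 5 * Q ≤ Q ^ 6 := by
    calc 4 ^ 5 * Q ≤ Q ^ 5 * Q := Nat.mul_le_mul_right _ (Nat.pow_le_pow_left hq 5)
      _ = _ := by ring
  have h67 : 4 ^ 6 * Q ≤ Q ^ 7 := by
    calc 4 ^ 6 * Q ≤ Q ^ 6 * Q := Nat.mul_le_mul_right _ h46
      _ = _ := by ring
  rcases h with h | ⟨rfl, h⟩
  · have h1 : (Q ^ 6 + Q ^ 4 + Q ^ 2 + 1) * (Q ^ 7 + 1) ≤ 98 * f * (Q ^ 7 + 1) := by
      calc (Q ^ 6 + Q ^ 4 + Q ^ 2 + 1) * (Q ^ 7 + 1)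
          = (Q ^ 7 + 1) * (Q ^ 6 + Q ^ 4 + Q ^ 2 + 1) := by ring
        _ ≤ 2 * f * ((Q + 1) * c) := h0
        _ ≤ 2 * f * (7 ^ 2 * (Q ^ 7 + 1)) := Nat.mul_le_mul_left _ h
        _ = _ := by ring
    have h2 := Nat.le_of_mul_le_mul_right h1 (Nat.succ_pos _)
    omega
  · have h7 : (4 ^ 6 * Q + 1) * (4 ^ 6 + 1) ≤ (Q ^ 7 + 1) * (Q ^ 6 + Q ^ 4 + Q ^ 2 + 1) :=
      Nat.mul_le_mul (by omega) (by omega)
    have h8 : 2 * 1 * ((Q + 1) * c) ≤ 2 * 1 * ((Q + 1) * 84672) :=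
      Nat.mul_le_mul_left _ (Nat.mul_le_mul_left _ h)
    have h9 := h7.trans (h0.trans h8)
    omega

theorem numr4 {Q f c : ℕ} (hq : 124 < Q) (hf1 : f = 1) (hi : (Q + 1) * (Q ^ 3 + 1) ≤ 2 * f * c) (h : c ≤ 207360) :
    False := by
  subst hf1
  have h1 : 125 ^ 3 ≤ Q ^ 3 := Nat.pow_le_pow_left hq 3
  have h2 : 1 * (125 ^ 3 + 1) ≤ (Q + 1) * (Q ^ 3 + 1) := Nat.mul_le_mul (by omega) (by omega)
  omega

theorem numr6 {Q f c : ℕ} (hq : 7 < Q) (hf1 : f = 1) (hQ : Q.Prime) (hi : (Q ^ 5 + 1) * (Q ^ 4 + Q ^ 2 + 1) ≤ 2 * f * c)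
    (h : c ≤ 627056640) : False := by
  subst hf1
  have hp11 : 11 ≤ Q := by
    by_contra hlt
    interval_cases Q <;> revert hQ <;> norm_num
  have h1 : 11 ^ 5 ≤ Q ^ 5 := Nat.pow_le_pow_left hp11 5
  have h3 : 11 ^ 4 ≤ Q ^ 4 := Nat.pow_le_pow_left hp11 4
  have h2 : (11 ^ 5 + 1) * (11 ^ 4 + 1) ≤ (Q ^ 5 + 1) * (Q ^ 4 + Q ^ 2 + 1) := Nat.mul_le_mul (by omega) (by omega)
  omega

theorem numr8 {Q f c : ℕ} (hq : 3 < Q) (hf1 : f = 1) (hi : (Q ^ 7 + 1) * (Q ^ 6 + Q ^ 4 + Q ^ 2 + 1) ≤ 2 * f * c)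
    (h : c ≤ 5806080) : False := by
  subst hf1
  have h46 : 4 ^ 6 ≤ Q ^ 6 := Nat.pow_le_pow_left hq 6
  have h47 : 4 ^ 7 ≤ Q ^ 7 := Nat.pow_le_pow_left hq 7
  have h2 : (4 ^ 7 + 1) * (4 ^ 6 + 1) ≤ (Q ^ 7 + 1) * (Q ^ 6 + Q ^ 4 + Q ^ 2 + 1) :=
    Nat.mul_le_mul (by omega) (by omega)
  omega

end num

section sub

variable {F : Type} [Field F] [Fintype F] {p f l : ℕ}
variable (hF : Fintype.card F = (p ^ f) ^ 2) (hp : p.Prime) (hf : 1 ≤ f)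

include hF hp hf

theorem core3 (hL3 : L3) (hq : 124 < p ^ f) (hl : Pm p f 3 l) {A : Subgroup (SU 3 F (p ^ f))} (hA : A ≠ ⊤)
    (hd : l ∣ Nat.card A) (hi : (p ^ f) ^ 3 + 1 ≤ 2 * f * Nat.card A) : False :=
  num3 (f18 hp hq) hq hi (small3 hF hp hf hL3 (by omega) hl hA hd)

theorem core5 (hL5 : L5) (hq : 20 < p ^ f) (hl : Pm p f 5 l) {A : Subgroup (SU 5 F (p ^ f))} (hA : A ≠ ⊤)
    (hd : l ∣ Nat.card A) (hi : ((p ^ f) ^ 5 + 1) * ((p ^ f) ^ 2 + 1) ≤ 2 * f * Nat.card A) : False :=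
  num5 (f_lt hp) hq hi (small5 hF hp hf hL5 hl hA hd)

theorem core7 (hL7 : L7) (hq : 4 < p ^ f) (hl : Pm p f 7 l) {A : Subgroup (SU 7 F (p ^ f))} (hA : A ≠ ⊤)
    (hd : l ∣ Nat.card A) (hi : ((p ^ f) ^ 7 + 1) * ((p ^ f) ^ 4 + (p ^ f) ^ 2 + 1) ≤ 2 * f * Nat.card A) : False :=
  num7 (f_lt hp) hq hi (small7 hF hp hf hL7 hl hA hd)

/-- a subgroup `B` of `SU_(N-1)` -/
theorem core4 (hL3 : L3) (hL4 : L4) (hq : 124 < p ^ f) (hl : Pm p f 3 l) {A : Subgroup (SU 4 F (p ^ f))} (hA : A ≠ ⊤)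
    (hd : l ∣ Nat.card A) (hi : (p ^ f + 1) * ((p ^ f) ^ 3 + 1) ≤ 2 * f * Nat.card A) :
    ∃ w : Fin 4 → F, hermForm 4 F (p ^ f) w w ≠ 0 ∧ ∀ g : SU 4 F (p ^ f), act g w = w → g ∈ A := by
  rcases even_gen hF hp hf le_rfl (by decide) rfl hl hA hd with ⟨w, hw, hAw⟩ | ⟨H, hH, hAH, hres⟩
  · rcases line_case (n := 3) hF hw hAw hl.pr (hl.not_dvd_succ hf (by norm_num)) hd with h | ⟨B, hB, hdB, hc⟩
    · exact ⟨w, hw, h⟩
    · exfalso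
      refine core3 hF hp hf hL3 hq hl hB hdB ?_
      have h1 : (p ^ f + 1) * ((p ^ f) ^ 3 + 1) ≤ (p ^ f + 1) * (2 * f * Nat.card B) := by
        calc (p ^ f + 1) * ((p ^ f) ^ 3 + 1) ≤ 2 * f * Nat.card A := hi
          _ ≤ 2 * f * ((p ^ f + 1) * Nat.card B) := Nat.mul_le_mul_left _ hc
          _ = _ := by ring
      exact Nat.le_of_mul_le_mul_left h1 (Nat.succ_pos _)
  · exfalso
    obtain ⟨hf1, h⟩ := res4 hF hp hf hL4 (by omega) hH hAH hres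
    exact numr4 hq hf1 hi h

theorem core6 (hL5 : L5) (hL6 : L6) (hq : 7 < p ^ f) (hl : Pm p f 5 l) {A : Subgroup (SU 6 F (p ^ f))} (hA : A ≠ ⊤)
    (hd : l ∣ Nat.card A) (hi : ((p ^ f) ^ 5 + 1) * ((p ^ f) ^ 4 + (p ^ f) ^ 2 + 1) ≤ 2 * f * Nat.card A) :
    ∃ w : Fin 6 → F, hermForm 6 F (p ^ f) w w ≠ 0 ∧ ∀ g : SU 6 F (p ^ f), act g w = w → g ∈ A := by
  rcases even_gen hF hp hf (by norm_num) (by decide) rfl hl hA hd with ⟨w, hw, hAw⟩ | ⟨H, hH, hAH, hres⟩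
  · rcases line_case (n := 5) hF hw hAw hl.pr (hl.not_dvd_succ hf (by norm_num)) hd with h | ⟨B, hB, hdB, hc⟩
    · exact ⟨w, hw, h⟩
    · exact (num6 (f_lt hp) hq (hi.trans (Nat.mul_le_mul_left _ hc)) (small5 hF hp hf hL5 hl hB hdB)).elim
  · exfalso
    obtain ⟨hf1, h, hpp⟩ := res6 hF hp hf hL6 hq hl hd hH hAH hres
    exact numr6 hq hf1 hpp hi h

theorem core8 (hL7 : L7) (hL8 : L8) (hq : 3 < p ^ f) (hl : Pm p f 7 l) {A : Subgroup (SU 8 F (p ^ f))} (hA : A ≠ ⊤)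
    (hd : l ∣ Nat.card A)
    (hi : ((p ^ f) ^ 7 + 1) * ((p ^ f) ^ 6 + (p ^ f) ^ 4 + (p ^ f) ^ 2 + 1) ≤ 2 * f * Nat.card A) :
    ∃ w : Fin 8 → F, hermForm 8 F (p ^ f) w w ≠ 0 ∧ ∀ g : SU 8 F (p ^ f), act g w = w → g ∈ A := by
  rcases even_gen hF hp hf (by norm_num) (by decide) rfl hl hA hd with ⟨w, hw, hAw⟩ | ⟨H, hH, hAH, hres⟩
  · rcases line_case (n := 7) hF hw hAw hl.pr (hl.not_dvd_succ hf (by norm_num)) hd with h | ⟨B, hB, hdB, hc⟩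
    · exact ⟨w, hw, h⟩
    · exact (num8 (f_lt hp) hq (hi.trans (Nat.mul_le_mul_left _ hc)) (small7 hF hp hf hL7 hl hB hdB)).elim
  · exfalso
    obtain ⟨hf1, h⟩ := res8 hF hp hf hL8 hH hAH hres
    exact numr8 hq hf1 hi h

end sub

section fac

variable {F : Type} [Field F] [Fintype F] {N p f : ℕ} {G : Type u} [Group G] [Finite G] {T X Y : Subgroup G}

/-- `|Z(SU_N(q))| = (N, q + 1)` -/
theorem card_center (hF : Fintype.card F = (p ^ f) ^ 2) (hN : 2 ≤ N) :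
    Nat.card (Subgroup.center (SU N F (p ^ f))) = Nat.gcd N (p ^ f + 1) := by
  have hfin : Finite (SU N F (p ^ f)) := inferInstance
  have hfin2 : Finite (PSU N F (p ^ f)) := Quotient.finite _
  have h1 := Cfsg.Agent.S0280.result hF N hN
  have h2 := Cfsg.Agent.S0278.result hF N (by omega)
  have h4 : Nat.card (Subgroup.center (SU N F (p ^ f))) * Nat.card (PSU N F (p ^ f)) = Nat.card (SU N F (p ^ f)) :=
    Subgroup.card_mul_index _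
  have hpos : 0 < Nat.card (PSU N F (p ^ f)) := Nat.card_pos
  apply Nat.eq_of_mul_eq_mul_right hpos
  apply Nat.eq_of_mul_eq_mul_left (Nat.succ_pos (p ^ f))
  rw [h4]
  change (p ^ f + 1) * _ = (p ^ f + 1) * _
  rw [h2, ← h1]
  ring

/-- **the index of one factor is bounded by the order of the other** -/
theorem index_le (h : Fac T X Y) (hp : p.Prime) (hf : 1 ≤ f) (hF : Fintype.card F = (p ^ f) ^ 2) (hN : 3 ≤ N)
    (h32 : ¬ (N = 3 ∧ p ^ f = 2)) (e : T ≃* PSU N F (p ^ f)) :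
    (img e Y).index ≤ 2 * f * Nat.card ((img e X).comap (pr : SU N F (p ^ f) →* _)) := by
  have := Fact.mk hp
  have hfin2 : Finite (PSU N F (p ^ f)) := Quotient.finite _
  obtain ⟨a, -, ha, hcard⟩ := h.card0
  have hout : Nat.card (Out T) = Nat.gcd N (p ^ f + 1) * (2 * f) := by
    rw [H548.Crit.card_out_congr e, card_out_psu hf hF hN h32]
  rw [hout] at ha
  rw [← card_img e X, ← card_img e Y, Nat.card_congr e.toEquiv] at hcard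
  have h1 := (img e Y).card_mul_index
  have hpos : 0 < Nat.card (img e Y) := Nat.card_pos
  have h2 : (img e Y).index = Nat.card (img e X) * a := by
    apply Nat.eq_of_mul_eq_mul_left hpos
    rw [h1, ← hcard]
    ring
  have hg : 0 < Nat.gcd N (p ^ f + 1) := Nat.gcd_pos_of_pos_left _ (by omega)
  have h3 := Nat.le_of_dvd (Nat.mul_pos hg (by omega)) ha
  rw [h2, card_comap_pr, card_center hF (by omega)]
  calc Nat.card (img e X) * a ≤ Nat.card (img e X) * (Nat.gcd N (p ^ f + 1) * (2 * f)) := Nat.mul_le_mul_left _ h3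
    _ = _ := by ring

theorem resW_of {e : T ≃* PSU N F (p ^ f)}
    (h : ∃ w : Fin N → F, hermForm N F (p ^ f) w w ≠ 0 ∧
      ∀ g : SU N F (p ^ f), act g w = w → g ∈ (img e X).comap (pr : SU N F (p ^ f) →* _)) : ∃ w, ResW e X w := by
  obtain ⟨w, hw, hg⟩ := h
  refine ⟨w, hw, fun g hgw => ?_⟩
  rw [← mem_img e, e.apply_symm_apply]
  exact hg g hgw

section N3

theorem three_aux (hL3 : L3) (h : Fac T X Y) (hp : p.Prime) (hf : 1 ≤ f) (hF : Fintype.card F = (p ^ f) ^ 2)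
    (e : T ≃* PSU 3 F (p ^ f)) {l : ℕ} (hl : Pm p f 3 l) (hd : l ∣ Nat.card (img e X)) : False := by
  have hq := (size_res h hF (by norm_num) e).1 rfl
  have hpr := pr_of_fac h hp hf hF le_rfl (by omega) e
  refine core3 hF hp hf hL3 (by omega) hl (comap_ne_top hpr.neX) (hd.trans (card_dvd_comap _)) ?_
  exact ((Cfsg.Agent.S2148.result (p ^ f) hF (by omega) (by omega)).1 _ hpr.neY).trans
    (index_le h hp hf hF le_rfl (by omega) e)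

/-- **`N = 3`** -/
theorem three {q : ℕ} (hL3 : L3) (h : Fac T X Y) (hF : Fintype.card F = q ^ 2) (e : T ≃* PSU 3 F q) : False := by
  obtain ⟨p, f, hp, hf, rfl, -⟩ := exists_prime_power hF
  have hq := (size_res h hF (by norm_num) e).1 rfl
  obtain ⟨l, h1, h2, -, -⟩ := exists_big hp hf le_rfl (by decide) (by omega)
  have hl : Pm p f 3 l := ⟨h1, h2⟩
  rcases (pr_of_fac h hp hf hF le_rfl (by omega) e).one hp hf hF hl (by norm_num) (by decide) le_rfl with h3 | h3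
  · exact three_aux hL3 h hp hf hF e hl h3
  · exact three_aux hL3 h.symm hp hf hF e hl h3

theorem five_aux (hL5 : L5) (h : Fac T X Y) (hp : p.Prime) (hf : 1 ≤ f) (hF : Fintype.card F = (p ^ f) ^ 2)
    (e : T ≃* PSU 5 F (p ^ f)) {l : ℕ} (hl : Pm p f 5 l) (hd : l ∣ Nat.card (img e X)) : False := by
  have hq := (size_res h hF (by norm_num) e).2.2.1 rfl
  have hpr := pr_of_fac h hp hf hF (by norm_num) (by omega) e
  refine core5 hF hp hf hL5 (by omega) hl (comap_ne_top hpr.neX) (hd.trans (card_dvd_comap _)) ?_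
  have h1 := (Cfsg.Agent.S2151.result (p ^ f) hF (by omega) 5 le_rfl (by decide)).1 _ hpr.neY
  rw [ix5 (by omega)] at h1
  exact h1.trans (index_le h hp hf hF (by norm_num) (by omega) e)

/-- **`N = 5`** -/
theorem five {q : ℕ} (hL5 : L5) (h : Fac T X Y) (hF : Fintype.card F = q ^ 2) (e : T ≃* PSU 5 F q) : False := by
  obtain ⟨p, f, hp, hf, rfl, -⟩ := exists_prime_power hF
  obtain ⟨l, hl⟩ := exists_pm (k := 5) hp hf le_rfl (by decide)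
  rcases (pr_of_fac h hp hf hF (by norm_num) (by omega) e).one hp hf hF hl (by norm_num) (by decide) le_rfl with h3 | h3
  · exact five_aux hL5 h hp hf hF e hl h3
  · exact five_aux hL5 h.symm hp hf hF e hl h3

theorem seven_aux (hL7 : L7) (h : Fac T X Y) (hp : p.Prime) (hf : 1 ≤ f) (hF : Fintype.card F = (p ^ f) ^ 2)
    (e : T ≃* PSU 7 F (p ^ f)) {l : ℕ} (hl : Pm p f 7 l) (hd : l ∣ Nat.card (img e X)) : False := by
  have hq := (size_res h hF (by norm_num) e).2.2.2.2.1 rfl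
  have hpr := pr_of_fac h hp hf hF (by norm_num) (by omega) e
  refine core7 hF hp hf hL7 (by omega) hl (comap_ne_top hpr.neX) (hd.trans (card_dvd_comap _)) ?_
  have h1 := (Cfsg.Agent.S2151.result (p ^ f) hF (by omega) 7 (by norm_num) (by decide)).1 _ hpr.neY
  rw [ix7 (by omega)] at h1
  exact h1.trans (index_le h hp hf hF (by norm_num) (by omega) e)

/-- **`N = 7`** -/
theorem seven {q : ℕ} (hL7 : L7) (h : Fac T X Y) (hF : Fintype.card F = q ^ 2) (e : T ≃* PSU 7 F q) : False := by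
  obtain ⟨p, f, hp, hf, rfl, -⟩ := exists_prime_power hF
  obtain ⟨l, hl⟩ := exists_pm (k := 7) hp hf (by norm_num) (by decide)
  rcases (pr_of_fac h hp hf hF (by norm_num) (by omega) e).one hp hf hF hl (by norm_num) (by decide) le_rfl with h3 | h3
  · exact seven_aux hL7 h hp hf hF e hl h3
  · exact seven_aux hL7 h.symm hp hf hF e hl h3

theorem four_aux (hL3 : L3) (hL4 : L4) (h : Fac T X Y) (hp : p.Prime) (hf : 1 ≤ f) (hF : Fintype.card F = (p ^ f) ^ 2)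
    (e : T ≃* PSU 4 F (p ^ f)) {l : ℕ} (hl : Pm p f 3 l) (hd : l ∣ Nat.card (img e X)) : ∃ w, ResW e X w := by
  have hq := (size_res h hF (by norm_num) e).2.1 rfl
  have hpr := pr_of_fac h hp hf hF (by norm_num) (by omega) e
  refine resW_of (core4 hF hp hf hL3 hL4 (by omega) hl (comap_ne_top hpr.neX) (hd.trans (card_dvd_comap _)) ?_)
  exact ((Cfsg.Agent.S2150.result (p ^ f) hF (by omega)).1 _ hpr.neY).trans
    (index_le h hp hf hF (by norm_num) (by omega) e)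

/-- **`N = 4`** -/
theorem four (hL3 : L3) (hL4 : L4) (h : Fac T X Y) (hp : p.Prime) (hf : 1 ≤ f) (hF : Fintype.card F = (p ^ f) ^ 2)
    (e : T ≃* PSU 4 F (p ^ f)) : (∃ w, ResW e X w) ∨ ∃ w, ResW e Y w := by
  have hq := (size_res h hF (by norm_num) e).2.1 rfl
  obtain ⟨l, h1, h2, -, -⟩ := exists_big hp hf le_rfl (by decide) (by omega)
  have hl : Pm p f 3 l := ⟨h1, h2⟩
  rcases (pr_of_fac h hp hf hF (by norm_num) (by omega) e).one hp hf hF hl (by norm_num) (by decide) (by norm_num)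
    with h3 | h3
  · exact Or.inl (four_aux hL3 hL4 h hp hf hF e hl h3)
  · exact Or.inr (four_aux hL3 hL4 h.symm hp hf hF e hl h3)

theorem six_aux (hL5 : L5) (hL6 : L6) (h : Fac T X Y) (hp : p.Prime) (hf : 1 ≤ f) (hF : Fintype.card F = (p ^ f) ^ 2)
    (e : T ≃* PSU 6 F (p ^ f)) {l : ℕ} (hl : Pm p f 5 l) (hd : l ∣ Nat.card (img e X)) : ∃ w, ResW e X w := by
  have hq := (size_res h hF (by norm_num) e).2.2.2.1 rfl
  have hpr := pr_of_fac h hp hf hF (by norm_num) (by omega) e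
  refine resW_of (core6 hF hp hf hL5 hL6 (by omega) hl (comap_ne_top hpr.neX) (hd.trans (card_dvd_comap _)) ?_)
  have h1 := (Cfsg.Agent.S2152.result (p ^ f) hF (by omega) 6 le_rfl (by decide)).1 _ hpr.neY
  rw [ix6 (by omega)] at h1
  exact h1.trans (index_le h hp hf hF (by norm_num) (by omega) e)

/-- **`N = 6`** -/
theorem six (hL5 : L5) (hL6 : L6) (h : Fac T X Y) (hp : p.Prime) (hf : 1 ≤ f) (hF : Fintype.card F = (p ^ f) ^ 2)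
    (e : T ≃* PSU 6 F (p ^ f)) : (∃ w, ResW e X w) ∨ ∃ w, ResW e Y w := by
  obtain ⟨l, hl⟩ := exists_pm (k := 5) hp hf le_rfl (by decide)
  rcases (pr_of_fac h hp hf hF (by norm_num) (by omega) e).one hp hf hF hl (by norm_num) (by decide) (by norm_num)
    with h3 | h3
  · exact Or.inl (six_aux hL5 hL6 h hp hf hF e hl h3)
  · exact Or.inr (six_aux hL5 hL6 h.symm hp hf hF e hl h3)

theorem eight_aux (hL7 : L7) (hL8 : L8) (h : Fac T X Y) (hp : p.Prime) (hf : 1 ≤ f) (hF : Fintype.card F = (p ^ f) ^ 2)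
    (e : T ≃* PSU 8 F (p ^ f)) {l : ℕ} (hl : Pm p f 7 l) (hd : l ∣ Nat.card (img e X)) : ∃ w, ResW e X w := by
  have hq := (size_res h hF (by norm_num) e).2.2.2.2.2.1 rfl
  have hpr := pr_of_fac h hp hf hF (by norm_num) (by omega) e
  refine resW_of (core8 hF hp hf hL7 hL8 (by omega) hl (comap_ne_top hpr.neX) (hd.trans (card_dvd_comap _)) ?_)
  have h1 := (Cfsg.Agent.S2152.result (p ^ f) hF (by omega) 8 (by norm_num) (by decide)).1 _ hpr.neY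
  rw [ix8 (by omega)] at h1
  exact h1.trans (index_le h hp hf hF (by norm_num) (by omega) e)

/-- **`N = 8`** -/
theorem eight (hL7 : L7) (hL8 : L8) (h : Fac T X Y) (hp : p.Prime) (hf : 1 ≤ f) (hF : Fintype.card F = (p ^ f) ^ 2)
    (e : T ≃* PSU 8 F (p ^ f)) : (∃ w, ResW e X w) ∨ ∃ w, ResW e Y w := by
  obtain ⟨l, hl⟩ := exists_pm (k := 7) hp hf (by norm_num) (by decide)
  rcases (pr_of_fac h hp hf hF (by norm_num) (by omega) e).one hp hf hF hl (by norm_num) (by decide) (by norm_num)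
    with h3 | h3
  · exact Or.inl (eight_aux hL7 hL8 h hp hf hF e hl h3)
  · exact Or.inr (eight_aux hL7 hL8 h.symm hp hf hF e hl h3)

end N3

/-- **`3 ≤ N ≤ 8`: one factor contains the stabiliser of a nonsingular vector** (in `G`-form) -/
theorem top_small (hL3 : L3) (hL4 : L4) (hL5 : L5) (hL6 : L6) (hL7 : L7) (hL8 : L8) (h : Fac T X Y) (hp : p.Prime)
    (hf : 1 ≤ f) (hF : Fintype.card F = (p ^ f) ^ 2) (hN : 3 ≤ N) (hN8 : N ≤ 8) (e : T ≃* PSU N F (p ^ f)) :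
    (Even N ∧ 4 ≤ N) ∧ ((∃ w, ResW e X w) ∨ ∃ w, ResW e Y w) := by
  obtain rfl | rfl | rfl | rfl | rfl | rfl : N = 3 ∨ N = 4 ∨ N = 5 ∨ N = 6 ∨ N = 7 ∨ N = 8 := by omega
  · exact (three hL3 h hF e).elim
  · exact ⟨⟨by decide, by norm_num⟩, four hL3 hL4 h hp hf hF e⟩
  · exact (five hL5 h hF e).elim
  · exact ⟨⟨by decide, by norm_num⟩, six hL5 hL6 h hp hf hF e⟩
  · exact (seven hL7 h hF e).elim
  · exact ⟨⟨by decide, by norm_num⟩, eight hL7 hL8 h hp hf hF e⟩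

end fac

end Cfsg.Agent.H533.Reg
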