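import Cfsg.Agent.H533.Reg.Sub
import Cfsg.Agent.H89.Reg.Res

/-!
# S3691, `PSU_n(q)`, `n ≤ 8`: proper subgroups of `SU_n(q)`, `n = 4, 6, 8`, containing a primitive prime (helper533)

* `even_gen` : such a subgroup fixes a nonsingular line or is contained in a residual maximal subgroup
* `line_case` : subgroups fixing a nonsingular line
* `res4`, `res6`, `res8`
-/

set_option autoImplicit false
set_option linter.unusedSectionVars false

namespace Cfsg.Agent.H533.Reg

open Module Cfsg Cfsg.Geo Cfsg.Agent.LieClassical.HermBasic Cfsg.Agent.H918 Cfsg.Agent.H251.GeoU Cfsg.Agent.H89.Reg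
open Cfsg.Agent.LieClassical.HermSiegel (act mat act_mul act_one act_inv_act act_act_inv herm_act act_smul act_add)
open scoped Matrix MatrixGroups

variable {F : Type} [Field F] [Fintype F] {n p f l q : ℕ}

/-- a subgroup fixing a nonsingular line -/
theorem card_fixline {A : Subgroup (SU n F q)} {w : Fin n → F}
    (hw : hermForm n F q w w ≠ 0) (hA : ∀ g ∈ A, ∃ c : F, act g w = c • w) :
    ∃ b, b ∣ q + 1 ∧ Nat.card A = Nat.card ((fixV q w).subgroupOf A) * b := by
  have hval : ∀ {g : SU n F q} {c : F}, act g w = c • w → hermForm n F q (act g w) w / hermForm n F q w w = c := by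
    intro g c h
    rw [h, herm_smul_left, mul_div_cancel_right₀ _ hw]
  let χ : A →* F :=
    { toFun := fun g => hermForm n F q (act (g : SU n F q) w) w / hermForm n F q w w
      map_one' := by
        rw [Subgroup.coe_one, act_one, div_self hw]
      map_mul' := fun g h => by
        obtain ⟨c, hc⟩ := hA g g.2
        obtain ⟨d, hd⟩ := hA h h.2
        rw [hval hc, hval hd]
        apply hval
        rw [Subgroup.coe_mul, act_mul, hd, act_smul, hc, smul_smul, mul_comm] }
  have hχ : ∀ g : A, act (g : SU n F q) w = χ g • w := by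
    intro g
    obtain ⟨c, hc⟩ := hA g g.2
    rw [hc]
    congr 1
    exact (hval hc).symm
  have hχn : ∀ g : A, χ g ^ (q + 1) = 1 := by
    intro g
    have h1 := herm_act (g : SU n F q) w w
    rw [hχ, herm_smul_left, herm_smul_right, ← mul_assoc, ← pow_succ'] at h1
    exact (mul_eq_right₀ hw).1 h1
  have hker : χ.toHomUnits.ker = (fixV q w).subgroupOf A := by
    ext g
    rw [MonoidHom.mem_ker, Subgroup.mem_subgroupOf, mem_fixV, hχ]
    constructor
    · intro h
      have h1 : χ g = 1 := by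
        have := congrArg (fun u : Fˣ => (u : F)) h
        exact this
      rw [h1, one_smul]
    · intro h
      apply Units.ext
      change χ g = 1
      by_contra h1
      have h2 : (χ g - 1) • w = 0 := by rw [sub_smul, h, one_smul, sub_self]
      rcases smul_eq_zero.1 h2 with h3 | h3
      · exact h1 (sub_eq_zero.1 h3)
      · exact ne_zero_of_ns hw h3
  refine ⟨Nat.card χ.toHomUnits.range, ?_, ?_⟩
  · apply card_dvd_of_pow
    rintro _ ⟨g, rfl⟩
    apply Units.ext
    exact hχn g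
  · rw [← Subgroup.card_mul_index χ.toHomUnits.ker, Subgroup.index_ker, hker]

/-- **subgroups fixing a nonsingular line**: either they contain the stabiliser of the vector, or are given by a proper
subgroup of `SU_(n-1)(q)` -/
theorem line_case (hF : Fintype.card F = q ^ 2) {A : Subgroup (SU (n + 1) F q)} {w : Fin (n + 1) → F}
    (hw : hermForm (n + 1) F q w w ≠ 0) (hA : ∀ g ∈ A, ∃ c : F, act g w = c • w) (hl : l.Prime) (hlq : ¬ l ∣ q + 1)
    (hd : l ∣ Nat.card A) :
    (∀ g : SU (n + 1) F q, act g w = w → g ∈ A) ∨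
      ∃ B : Subgroup (SU n F q), B ≠ ⊤ ∧ l ∣ Nat.card B ∧ Nat.card A ≤ (q + 1) * Nat.card B := by
  obtain ⟨ι, hι, hιr⟩ := exists_iota hF hw
  obtain ⟨b, hb, hc⟩ := card_fixline hw hA
  have hcB : Nat.card ((fixV q w).subgroupOf A) = Nat.card (A.comap ι) := by
    have h1 : Nat.card (A.comap ι) = Nat.card ((A.comap ι).map ι) :=
      (Subgroup.card_map_of_injective hι).symm
    have h2 : (A.comap ι).map ι = fixV q w ⊓ A := by
      ext g
      constructor
      · rintro ⟨b, hb, rfl⟩
        exact ⟨(hιr _).2 ⟨b, rfl⟩, hb⟩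
      · rintro ⟨hg, hgA⟩
        obtain ⟨b, rfl⟩ := (hιr g).1 hg
        exact ⟨b, hgA, rfl⟩
    rw [h1, h2, ← Subgroup.inf_subgroupOf_right (fixV q w) A,
      Nat.card_congr (Subgroup.subgroupOfEquivOfLe (inf_le_right : fixV q w ⊓ A ≤ A)).toEquiv]
  by_cases htop : A.comap ι = ⊤
  · left
    intro g hg
    obtain ⟨b, rfl⟩ := (hιr g).1 hg
    have : b ∈ A.comap ι := by rw [htop]; trivial
    exact this
  · right
    refine ⟨A.comap ι, htop, ?_, ?_⟩
    · rw [hc, hcB] at hd
      exact (hl.dvd_mul.1 hd).resolve_right fun h1 => hlq (h1.trans hb)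
    · rw [hc, hcB, mul_comm]
      exact Nat.mul_le_mul_right _ (Nat.le_of_dvd (Nat.succ_pos q) hb)

section

variable (hF : Fintype.card F = (p ^ f) ^ 2) (hp : p.Prime) (hf : 1 ≤ f)

include hF hp hf

/-- the maximal overgroup for `n = m + 1` even -/
theorem even_gen {m : ℕ} (hn : 4 ≤ n) (hm : Odd m) (hnm : n = m + 1) (hl : Pm p f m l) {A : Subgroup (SU n F (p ^ f))}
    (hA : A ≠ ⊤) (hd : l ∣ Nat.card A) :
    (∃ w : Fin n → F, hermForm n F (p ^ f) w w ≠ 0 ∧ ∀ g ∈ A, ∃ c : F, act g w = c • w) ∨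
      ∃ H : Subgroup (GL (Fin n) F), IsMaximalIn (SUg n F (p ^ f)) H ∧ A.map (suHom n F (p ^ f)) ≤ H ∧
        InUnitaryResidualClass H := by
  obtain ⟨H, hH, hAH⟩ := exists_max hA
  have hfinG : Finite (GL (Fin n) F) := inferInstance
  have hcA : Nat.card (A.map (suHom n F (p ^ f))) = Nat.card A := Subgroup.card_map_of_injective suHom_injective
  have hdH : l ∣ Nat.card H := (hcA ▸ hd).trans (Subgroup.card_dvd_of_le hAH)
  rcases Cfsg.Agent.S5663.result n (p ^ f) hF (by omega) (by omega) H hH.1.le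
    (Cfsg.Agent.H918.sup_scalars_ne hF (by omega) (by omega) hH) with ⟨M, hM, hHM⟩ | hres
  · left
    rcases class_gen hF hp hf hn hm (by omega) (by omega) hl hM (hdH.trans (Subgroup.card_dvd_of_le hHM)) with
      ⟨-, W, hW1, hW, rfl⟩ | ⟨h1, -⟩
    · have hND : Cfsg.Agent.GpUn.ND (p ^ f) W := by
        intro v hv h
        by_contra hv0
        obtain ⟨-, u, hu, huv⟩ := hW v hv hv0
        exact huv (h u hu)
      obtain ⟨w, hw, hwW⟩ := exists_span hW1 hND
      refine ⟨w, hw, fun g hg => ?_⟩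
      have h1 : suHom n F (p ^ f) g ∈ subspaceStabilizer W := (hHM (hAH ⟨g, hg, rfl⟩)).1
      have h2 : act g w ∈ W := (h1 w).1 hwW
      have hw0 : w ≠ 0 := ne_zero_of_ns hw
      obtain ⟨c, hc⟩ := (finrank_eq_one_iff_of_nonzero' (⟨w, hwW⟩ : W) (by
        intro h; exact hw0 (congrArg Subtype.val h))).1 hW1 ⟨act g w, h2⟩
      exact ⟨c, (congrArg Subtype.val hc).symm⟩
    · omega
  · exact Or.inr ⟨H, hH, hAH, hres⟩

theorem card_map_le {A : Subgroup (SU n F (p ^ f))} {H : Subgroup (GL (Fin n) F)}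
    (hAH : A.map (suHom n F (p ^ f)) ≤ H) : Nat.card A ≤ Nat.card H := by
  have hfinG : Finite (GL (Fin n) F) := inferInstance
  have hcA : Nat.card (A.map (suHom n F (p ^ f))) = Nat.card A := Subgroup.card_map_of_injective suHom_injective
  rw [← hcA]
  exact Nat.card_le_card_of_injective (Subgroup.inclusion hAH) (Subgroup.inclusion_injective hAH)

/-- residual subgroups, `n = 4` -/
theorem res4 (hL4 : L4) (hq : 3 < p ^ f) {A : Subgroup (SU 4 F (p ^ f))} {H : Subgroup (GL (Fin 4) F)}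
    (hH : IsMaximalIn (SUg 4 F (p ^ f)) H) (hAH : A.map (suHom 4 F (p ^ f)) ≤ H) (hres : InUnitaryResidualClass H) :
    f = 1 ∧ Nat.card A ≤ 207360 := by
  obtain ⟨P, hcore, hqp, hcases⟩ := hL4 (p ^ f) hF H hH hres
  refine ⟨f_one hqp, ?_⟩
  have h0 := card_map_le hF hp hf hAH
  have h1 := card_res_le (by norm_num) hcore (hH.1.le.trans inf_le_right)
  have h2 : Nat.card (MulAut (P ⧸ (scalars (Fin 4) F).subgroupOf P)) ≤ 51840 := by
    rcases hcases with ⟨⟨e⟩, -⟩ | ⟨-, h3⟩ | ⟨⟨K, _, _, hK, ⟨e⟩⟩, -⟩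
    · rw [Nat.card_congr (MulAut.congr e).toEquiv]
      exact (Nat.le_of_dvd (by norm_num) card_aut_a7).trans (by norm_num)
    · omega
    · rw [Nat.card_congr (MulAut.congr e).toEquiv]
      exact Nat.le_of_dvd (by norm_num) (H269.U5.card_aut_u42 hK)
  omega

/-- residual subgroups, `n = 8` -/
theorem res8 (hL8 : L8) {A : Subgroup (SU 8 F (p ^ f))} {H : Subgroup (GL (Fin 8) F)}
    (hH : IsMaximalIn (SUg 8 F (p ^ f)) H) (hAH : A.map (suHom 8 F (p ^ f)) ≤ H) (hres : InUnitaryResidualClass H) :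
    f = 1 ∧ Nat.card A ≤ 5806080 := by
  obtain ⟨P, hcore, hqp, -, K, _, _, hK, ⟨e⟩⟩ := hL8 (p ^ f) hF H hH hres
  refine ⟨f_one hqp, ?_⟩
  have h0 := card_map_le hF hp hf hAH
  have h1 := card_res_le (by norm_num) hcore (hH.1.le.trans inf_le_right)
  have h2 : Nat.card (MulAut (P ⧸ (scalars (Fin 8) F).subgroupOf P)) ≤ 725760 := by
    rw [Nat.card_congr (MulAut.congr e).toEquiv]
    exact card_aut_l34 hK
  omega

/-- `l` does not divide `|Aut(PSU_3(q))|` -/
theorem not_dvd_u3 (hl : Pm p f 5 l) (hq : 3 ≤ p ^ f) : ¬ l ∣ Nat.card (MulAut (Cfsg.PSU 3 F (p ^ f))) := by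
  have := Fact.mk hp
  have hpr := hl.pr
  have hlt := hl.lt hp hf (by norm_num)
  rw [Cfsg.Agent.S0815.result (F := F) p f hf rfl hF 3 le_rfl (by omega)]
  intro h
  have h10 : 10 < l := by nlinarith
  rcases hpr.dvd_mul.1 h with h1 | h1
  · rcases hpr.dvd_mul.1 h1 with h2 | h2
    · have h3 := Nat.le_of_dvd (by norm_num) (h2.trans (Nat.gcd_dvd_left 3 (p ^ f + 1)))
      omega
    · rcases hpr.dvd_mul.1 h2 with h3 | h3
      · have h4 := Nat.le_of_dvd (by norm_num) h3
        omega
      · exact hl.not_dvd_f hp hf (by norm_num) h3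
  · have h2 : l ∣ (p ^ f + 1) * Nat.card (Cfsg.SU 3 F (p ^ f)) :=
      Dvd.dvd.mul_left (h1.trans (Subgroup.card_quotient_dvd_card _)) _
    rw [Cfsg.Agent.S0278.result hF 3 (by norm_num), Finset.prod_range_succ, Finset.prod_range_succ,
      Finset.prod_range_one] at h2
    have hq0 : ¬ l ∣ p ^ f := hl.not_dvd_q hp hf (by norm_num)
    rw [if_pos (by decide), if_neg (by decide), if_pos (by decide)] at h2
    rcases hpr.dvd_mul.1 h2 with h3 | h3
    · exact hq0 (hpr.dvd_of_dvd_pow h3)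
    · rcases hpr.dvd_mul.1 h3 with h4 | h4
      · rcases hpr.dvd_mul.1 h4 with h5 | h5
        · rw [zero_add, pow_one] at h5
          exact hl.not_dvd_succ hf (by norm_num) h5
        · rw [← pow_mul, hl.iff] at h5
          have := Nat.le_of_dvd (by positivity) h5
          nlinarith
      · have h5 : l ∣ p ^ (f * 6) - 1 := by
          have h6 : p ^ (f * 6) - 1 = ((p ^ f) ^ 3 + 1) * ((p ^ f) ^ 3 - 1) := by
            have := Nat.sq_sub_sq ((p ^ f) ^ 3) 1
            rw [one_pow] at this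
            rw [← this, ← pow_mul, ← pow_mul]
          rw [h6]
          exact Dvd.dvd.mul_right h4 _
        rw [hl.iff] at h5
        have := Nat.le_of_dvd (by positivity) h5
        nlinarith

/-- residual subgroups, `n = 6` -/
theorem res6 (hL6 : L6) (hq : 7 < p ^ f) (hl : Pm p f 5 l) {A : Subgroup (SU 6 F (p ^ f))} (hd : l ∣ Nat.card A)
    {H : Subgroup (GL (Fin 6) F)}
    (hH : IsMaximalIn (SUg 6 F (p ^ f)) H) (hAH : A.map (suHom 6 F (p ^ f)) ≤ H) (hres : InUnitaryResidualClass H) :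
    f = 1 ∧ Nat.card A ≤ 627056640 ∧ (p ^ f).Prime := by
  obtain ⟨P, hcore, hcases⟩ := hL6 (p ^ f) hF H hH hres
  have h0 := card_map_le hF hp hf hAH
  have h1 := card_res_le (by norm_num) hcore (hH.1.le.trans inf_le_right)
  have key : (p ^ f).Prime → Nat.card (MulAut (P ⧸ (scalars (Fin 6) F).subgroupOf P)) ≤ 104509440 →
      f = 1 ∧ Nat.card A ≤ 627056640 ∧ (p ^ f).Prime := by
    intro h3 h4
    refine ⟨f_one h3, ?_, h3⟩
    omega
  rcases hcases with ⟨⟨e⟩, h3, -⟩ | ⟨⟨e⟩, h3, -⟩ | ⟨⟨K, _, _, hK, ⟨e⟩⟩, h3, -⟩ | ⟨-, h3⟩ | ⟨⟨K, _, _, hK, ⟨e⟩⟩, h3⟩ | ⟨⟨e⟩, -⟩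
  · apply key h3
    rw [Nat.card_congr (MulAut.congr e).toEquiv]
    exact (Nat.le_of_dvd (by norm_num) H269.U5.card_aut_l211).trans (by norm_num)
  · apply key h3
    rw [Nat.card_congr (MulAut.congr e).toEquiv]
    exact (Nat.le_of_dvd (by norm_num) card_aut_a7).trans (by norm_num)
  · apply key h3
    rw [Nat.card_congr (MulAut.congr e).toEquiv]
    exact (card_aut_l34 hK).trans (by norm_num)
  · omega
  · rcases h3 with h3 | ⟨h3, -⟩
    · omega
    apply key h3
    rw [Nat.card_congr (MulAut.congr e).toEquiv]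
    exact card_aut_u43 hK
  · exfalso
    have hlp := hl.pr
    have h10 : 10 < l := by
      have := hl.lt hp hf (by norm_num)
      nlinarith
    obtain ⟨g, hgA, hgl, hg1, hgo⟩ := Cfsg.Agent.H89.Reg.exists_elt hl.pr hd
    set x : GL (Fin 6) F := suHom 6 F (p ^ f) g with hx
    have hxH : x ∈ H := hAH ⟨g, hgA, rfl⟩
    have hX : x ^ l = 1 := by rw [hx, ← map_pow, hgl, map_one]
    have hxo : orderOf x = l := by rw [hx, orderOf_injective _ suHom_injective]; exact hgo
    have h3 := H269.U5.ord_dvd_aut hcore hxH (fun m hm => by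
      obtain ⟨c, hc⟩ := (mem_scalars_iff _).1 hm
      have hdet : ((x ^ m : GL (Fin 6) F) : Matrix (Fin 6) (Fin 6) F).det = 1 :=
        mem_specialLinear.1 ((hH.1.le.trans inf_le_right) (H.pow_mem hxH m))
      rw [hc, Matrix.det_smul, Matrix.det_one, mul_one, Fintype.card_fin] at hdet
      have hdet' : c ^ 6 = 1 := Units.ext (by rw [Units.val_pow_eq_pow_val, hdet, Units.val_one])
      have hcl : c ^ l = 1 := by
        have h4 : (x ^ m) ^ l = 1 := by rw [← pow_mul, mul_comm, pow_mul, hX, one_pow]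
        have h5 := congrArg (fun y : GL (Fin 6) F => (y : Matrix (Fin 6) (Fin 6) F)) h4
        simp only [Units.val_pow_eq_pow_val, Units.val_one] at h5
        rw [← Units.val_pow_eq_pow_val, hc, smul_pow, one_pow] at h5
        have h6 := congrFun (congrFun h5 0) 0
        apply Units.ext
        simpa using h6
      have hc1 : c = 1 := by
        have h6 : orderOf c ∣ 6 := orderOf_dvd_of_pow_eq_one hdet'
        have h7 : orderOf c ∣ l := orderOf_dvd_of_pow_eq_one hcl
        rcases (Nat.dvd_prime hlp).1 h7 with h8 | h8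
        · exact orderOf_eq_one_iff.1 h8
        · rw [h8] at h6
          have := Nat.le_of_dvd (by norm_num) h6
          omega
      apply Units.ext
      rw [hc, hc1, Units.val_one, one_smul, Units.val_one])
    rw [hxo, Nat.card_congr (MulAut.congr e).toEquiv] at h3
    exact not_dvd_u3 hF hp hf hl (by omega) h3

end

end Cfsg.Agent.H533.Reg
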