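import Cfsg.Agent.H533.Reg.Idx
import Cfsg.Agent.S5779
import Cfsg.Agent.S5785
import Cfsg.Agent.S5797
import Cfsg.Agent.S5803
import Cfsg.Agent.S5812
import Cfsg.Agent.S5821

/-!
# S3691, `PSU_N(q)`, `3 ≤ N ≤ 8`: the residual lists (helper533)

* `l3 ... l8` : the hypotheses `L3 ... L8` of `top_small`
* `top_small'` : `top_small` without hypotheses
-/

set_option autoImplicit false

namespace Cfsg.Agent.H533.Reg

open Cfsg Cfsg.Agent.H454.Reg Cfsg.Agent.H89.Reg

theorem l3 : L3 := fun q hF hq H hH hS => Cfsg.Agent.S5779.result q hF hq H hH hS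

theorem l4 : L4 := fun q hF H hH hS => Cfsg.Agent.S5785.result q hF H hH hS

theorem l5 : L5 := fun q hF H hH hS => Cfsg.Agent.S5797.result q hF H hH hS

theorem l6 : L6 := fun q hF H hH hS => Cfsg.Agent.S5803.result q hF H hH hS

theorem l7 : L7 := fun q hF H hH hS => Cfsg.Agent.S5812.result q hF H hH hS

theorem l8 : L8 := fun q hF H hH hS => Cfsg.Agent.S5821.result q hF H hH hS

universe u

/-- **`3 ≤ N ≤ 8`** -/
theorem top_small' {F : Type} [Field F] [Fintype F] {N p f : ℕ} {G : Type u} [Group G] [Finite G] {T X Y : Subgroup G}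
    (h : Fac T X Y) (hp : p.Prime) (hf : 1 ≤ f) (hF : Fintype.card F = (p ^ f) ^ 2) (hN : 3 ≤ N) (hN8 : N ≤ 8)
    (e : T ≃* PSU N F (p ^ f)) : (Even N ∧ 4 ≤ N) ∧ ((∃ w, ResW e X w) ∨ ∃ w, ResW e Y w) :=
  top_small l3 l4 l5 l6 l7 l8 h hp hf hF hN hN8 e

end Cfsg.Agent.H533.Reg
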