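import Cfsg.Agent.H533.Reg.Cls
import Cfsg.Agent.H533.Reg.Hyp
import Cfsg.Agent.H89.Reg.Pair
import Cfsg.Agent.H947.El.PsuB
import Cfsg.Agent.H753.ResCard
import Cfsg.Agent.StandardComponent.AltAut
import Cfsg.Agent.S5778

/-!
# S3691, `PSU_n(q)`, `n ≤ 8`: proper subgroups of `SU_n(q)`, `n = 3, 5, 7`, containing a primitive prime (helper533)

* `small3`, `small5`, `small7`
-/

set_option autoImplicit false
set_option linter.unusedSectionVars false

namespace Cfsg.Agent.H533.Reg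

open Module Cfsg Cfsg.Geo Cfsg.Agent.LieClassical.HermBasic Cfsg.Agent.H918 Cfsg.Agent.H251.GeoU Cfsg.Agent.H89.Reg
open Cfsg.Agent.H947.El Cfsg.Agent.H907.Mx
open scoped Matrix MatrixGroups

variable {F : Type} [Field F] [Fintype F] {n p f l : ℕ}

theorem card_aut_a7 : Nat.card (MulAut (alternatingGroup (Fin 7))) ∣ 5040 := by
  obtain ⟨ψ, hψ⟩ := Cfsg.Agent.StandardComponent.AltAut.exists_autHom 7 le_rfl
  have hinj : Function.Injective ψ := by
    rw [injective_iff_map_eq_one]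
    intro e he
    ext x : 2
    rw [hψ, he]
    simp
  have h1 : Nat.card (MulAut (alternatingGroup (Fin 7))) ∣ Nat.card (Equiv.Perm (Fin 7)) :=
    Subgroup.card_dvd_of_injective ψ hinj
  rw [Nat.card_eq_fintype_card (α := Equiv.Perm (Fin 7)), Fintype.card_perm, Fintype.card_fin] at h1
  exact h1

theorem card_aut_l32 : Nat.card (MulAut (Matrix.ProjectiveSpecialLinearGroup (Fin 3) (ZMod 2))) ≤ 1440 := by
  have : Fact (Nat.Prime 2) := ⟨Nat.prime_two⟩
  rw [Cfsg.Agent.S0813.result (F := ZMod 2) 2 1 le_rfl (by rw [ZMod.card, pow_one]) 3 (by norm_num) (by norm_num)]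
  rw [if_neg (by norm_num)]
  have h2 : Nat.card (GL (Fin 3) (ZMod 2)) = 168 := by
    rw [Matrix.card_GL_field, ZMod.card, Fin.prod_univ_three]
    norm_num
  have h3 : Nat.card (Matrix.ProjGenLinGroup (Fin 3) (ZMod 2)) ∣ 168 := by
    rw [← h2]
    exact Subgroup.card_quotient_dvd_card _
  have := Nat.le_of_dvd (by norm_num) h3
  omega

theorem card_aut_u33 {K : Type*} [Field K] [Fintype K] (hK : Fintype.card K = 9) :
    Nat.card (MulAut (Cfsg.PSU 3 K 3)) ≤ 12096 := by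
  have : Fact (Nat.Prime 3) := ⟨Nat.prime_three⟩
  have hK' : Fintype.card K = 3 ^ 2 := by rw [hK]; norm_num
  rw [Cfsg.Agent.S0815.result (F := K) 3 1 le_rfl (by norm_num) hK' 3 (by norm_num) (by norm_num)]
  have h2 : Nat.card (Cfsg.SU 3 K 3) = 6048 := by
    rw [Cfsg.Agent.H948.UProd.card_SU hK' (by norm_num)]
    simp [Finset.prod_range_succ, Cfsg.Agent.H948.UProd.ph, Nat.even_iff]
  have h3 : Nat.card (Cfsg.PSU 3 K 3) ∣ 6048 := by
    rw [← h2]
    exact Subgroup.card_quotient_dvd_card _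
  have h4 : Nat.gcd 3 (3 + 1) * (2 * 1) = 2 := by decide
  rw [h4]
  have := Nat.le_of_dvd (by norm_num) h3
  omega

theorem card_aut_u43 {K : Type*} [Field K] [Fintype K] (hK : Fintype.card K = 9) :
    Nat.card (MulAut (Cfsg.PSU 4 K 3)) ≤ 104509440 := by
  have : Fact (Nat.Prime 3) := ⟨Nat.prime_three⟩
  have hK' : Fintype.card K = 3 ^ 2 := by rw [hK]; norm_num
  rw [Cfsg.Agent.S0815.result (F := K) 3 1 le_rfl (by norm_num) hK' 4 (by norm_num) (by norm_num)]
  have h2 : Nat.card (Cfsg.SU 4 K 3) = 13063680 := by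
    rw [Cfsg.Agent.H948.UProd.card_SU hK' (by norm_num)]
    simp [Finset.prod_range_succ, Cfsg.Agent.H948.UProd.ph, Nat.even_iff]
  have h3 : Nat.card (Cfsg.PSU 4 K 3) ∣ 13063680 := by
    rw [← h2]
    exact Subgroup.card_quotient_dvd_card _
  have h4 : Nat.gcd 4 (3 + 1) * (2 * 1) = 8 := by decide
  rw [h4]
  have := Nat.le_of_dvd (by norm_num) h3
  omega

theorem card_aut_l34 {K : Type*} [Field K] [Fintype K] (hK : Fintype.card K = 4) :
    Nat.card (MulAut (Matrix.ProjectiveSpecialLinearGroup (Fin 3) K)) ≤ 725760 := by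
  have : Fact (Nat.Prime 2) := ⟨Nat.prime_two⟩
  rw [Cfsg.Agent.S0813.result (F := K) 2 2 (by norm_num) (by rw [hK]; norm_num) 3 (by norm_num) (by norm_num)]
  rw [if_neg (by norm_num)]
  have h2 : Nat.card (GL (Fin 3) K) = 181440 := by
    rw [Matrix.card_GL_field, hK, Fin.prod_univ_three]
    norm_num
  have h3 : Nat.card (Matrix.ProjGenLinGroup (Fin 3) K) ∣ 181440 := by
    rw [← h2]
    exact Subgroup.card_quotient_dvd_card _
  have := Nat.le_of_dvd (by norm_num) h3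
  omega

/-- `q` prime -/
theorem f_one (h : (p ^ f).Prime) : f = 1 := (Nat.Prime.eq_one_of_pow h)

theorem pn_of_pm (hF : Fintype.card F = (p ^ f) ^ 2) (hp : p.Prime) (hf : 1 ≤ f) (hl : Pm p f 3 l) :
    PN F p f (p ^ f) l where
  pp := hp
  n0 := hf
  qp := rfl
  cF := by rw [hF, ← pow_mul, mul_comm]
  pr := hl.pr
  iff := hl.iff
  dv := hl.dvd_pred hp hf (by norm_num)
  rp := hl.not_dvd_p hp hf (by norm_num)

section

variable (hF : Fintype.card F = (p ^ f) ^ 2) (hp : p.Prime) (hf : 1 ≤ f)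

include hF hp hf

theorem small3 (hL3 : L3) (hq : 6 ≤ p ^ f) (hl : Pm p f 3 l) {A : Subgroup (SU 3 F (p ^ f))} (hA : A ≠ ⊤) (hd : l ∣ Nat.card A) :
    (p ^ f + 1) * Nat.card A ≤ 3 ^ 2 * ((p ^ f) ^ 3 + 1) ∨ (f = 1 ∧ Nat.card A ≤ 4320) := by
  obtain ⟨H, hH, hAH⟩ := exists_max hA
  have hfinG : Finite (GL (Fin 3) F) := inferInstance
  have hcA : Nat.card (A.map (suHom 3 F (p ^ f))) = Nat.card A := Subgroup.card_map_of_injective suHom_injective
  have hle : Nat.card A ≤ Nat.card H := by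
    rw [← hcA]
    exact Nat.card_le_card_of_injective (Subgroup.inclusion hAH) (Subgroup.inclusion_injective hAH)
  have h := pn_of_pm hF hp hf hl
  have hlp := hl.pr
  obtain ⟨g, hgA, hgl, hg1, -⟩ := Cfsg.Agent.H89.Reg.exists_elt hl.pr hd
  set x : GL (Fin 3) F := suHom 3 F (p ^ f) g with hx
  have hxH : x ∈ H := hAH ⟨g, hgA, rfl⟩
  have hX : x ^ l = 1 := by rw [hx, ← map_pow, hgl, map_one]
  have hX1 : x ≠ 1 := fun h1 => hg1 (suHom_injective (by rw [map_one]; exact h1))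
  have hM : (x : Matrix (Fin 3) (Fin 3) F) ^ l = 1 := by
    rw [← Units.val_pow_eq_pow_val, hX, Units.val_one]
  have hM1 : (x : Matrix (Fin 3) (Fin 3) F) ≠ 1 := by
    intro h8
    exact hX1 (Units.ext (by rw [h8, Units.val_one]))
  rcases Cfsg.Agent.S5778.result (p ^ f) hF (by omega) H hH with ⟨W, hW0, hWs, he⟩ | ⟨W, hW0, hWn, hW3, he⟩ | ⟨-, D, hD, he⟩ |
    ⟨-, -, K, hK, hadj, he⟩ | ⟨F₀, l, P, hl, hlo, hc, -, he⟩ | ⟨-, -, F₀, P, hc, -, he⟩ |
    ⟨p', R, hp', -, -, h11, -, hirr, -, h27, h3, he⟩ | hres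
  · exfalso
    rw [he] at hxH
    refine h.no_sub hM hM1 hW0 ?_ (fun v hv => (hxH.1 v).1 hv)
    rintro rfl
    have h1 := hWs (Pi.single 0 1) trivial (Pi.single 0 1) trivial
    have hq0 : p ^ f ≠ 0 := by omega
    simp [hermForm, Fin.sum_univ_three, zero_pow hq0] at h1
  · exfalso
    rw [he] at hxH
    refine h.no_sub hM hM1 hW0 ?_ (fun v hv => (hxH.1 v).1 hv)
    rintro rfl
    rw [finrank_top, Module.finrank_fin_fun] at hW3
    omega
  · exfalso
    rw [he] at hxH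
    exact h.no_dec hX hX1 hD.decomp.finrank_eq hxH.1
  · left
    have h1 := card_field_le hF (by norm_num) (by decide) hK hadj
    refine le_trans ?_ h1
    rw [← he]
    exact Nat.mul_le_mul_left _ hle
  · exfalso
    rw [he] at hxH
    exact h.no_subfield hX hX1 hl.two_le hc hxH.1
  · exfalso
    rw [he] at hxH
    exact h.no_subfield hX hX1 le_rfl hc hxH.1
  · exfalso
    rw [he] at hxH
    have h5 : 5 ≤ l := by have := h.ge; have := h.n0; omega
    exact h.no_scalar hX hX1 (symp_prime hirr h27 h3 hxH.1 h.pr h5 hX)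
  · right
    obtain ⟨P, hcore, hqp, hcases⟩ := hL3 (p ^ f) hF (by omega) H hH hres
    refine ⟨f_one hqp, ?_⟩
    have h1 := card_res_le (by norm_num) hcore (hH.1.le.trans inf_le_right)
    have h2 : Nat.card (MulAut (P ⧸ (scalars (Fin 3) F).subgroupOf P)) ≤ 1440 := by
      rcases hcases with ⟨⟨e⟩, -, -⟩ | ⟨⟨e⟩, -⟩ | ⟨⟨e⟩, hq5⟩
      · rw [Nat.card_congr (MulAut.congr e).toEquiv]
        exact card_aut_l32
      · rw [Nat.card_congr (MulAut.congr e).toEquiv]
        exact Nat.le_of_dvd (by norm_num) H753.ResCard.card_mulAut_A6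
      · omega
    omega

/-- the maximal overgroup for `n = 5, 7` -/
theorem odd_gen (hn : 4 ≤ n) (hno : Odd n) (hnp : n.Prime) (hl : Pm p f n l) {A : Subgroup (SU n F (p ^ f))} (hA : A ≠ ⊤)
    (hd : l ∣ Nat.card A) :
    (p ^ f + 1) * Nat.card A ≤ n ^ 2 * ((p ^ f) ^ n + 1) ∨
      ∃ H : Subgroup (GL (Fin n) F), IsMaximalIn (SUg n F (p ^ f)) H ∧ Nat.card A ≤ Nat.card H ∧
        InUnitaryResidualClass H := by
  obtain ⟨H, hH, hAH⟩ := exists_max hA
  have hfinG : Finite (GL (Fin n) F) := inferInstance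
  have hcA : Nat.card (A.map (suHom n F (p ^ f))) = Nat.card A := Subgroup.card_map_of_injective suHom_injective
  have hle : Nat.card A ≤ Nat.card H := by
    rw [← hcA]
    exact Nat.card_le_card_of_injective (Subgroup.inclusion hAH) (Subgroup.inclusion_injective hAH)
  have hdH : l ∣ Nat.card H := (hcA ▸ hd).trans (Subgroup.card_dvd_of_le hAH)
  rcases Cfsg.Agent.S5663.result n (p ^ f) hF (by omega) (by omega) H hH.1.le
    (Cfsg.Agent.H918.sup_scalars_ne hF (by omega) (by omega) hH) with ⟨M, hM, hHM⟩ | hres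
  · left
    rcases class_gen hF hp hf hn hno le_rfl (by omega) hl hM (hdH.trans (Subgroup.card_dvd_of_le hHM)) with
      ⟨h1, -⟩ | ⟨-, r, K, hr, -, hK, hadj, rfl⟩
    · omega
    · have hne : Nonempty (Fin n) := ⟨⟨0, by omega⟩⟩
      have h1 := H912.finrank_dvd_of_fieldSub hK
      rw [Fintype.card_fin] at h1
      have h2 : r = n := (Nat.prime_dvd_prime_iff_eq hr hnp).1 h1
      subst h2
      refine le_trans (Nat.mul_le_mul_left _ (hle.trans ?_)) (card_field_le hF (by omega) hno hK hadj)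
      have h3 : H ≤ (subalgebraNormalizer K ⊓ SUg r F (p ^ f) : Subgroup (GL (Fin r) F)) :=
        le_inf (hHM.trans inf_le_left) hH.1.le
      exact Nat.card_le_card_of_injective (Subgroup.inclusion h3) (Subgroup.inclusion_injective h3)
  · exact Or.inr ⟨H, hH, hle, hres⟩

theorem small5 (hL5 : L5) (hl : Pm p f 5 l) {A : Subgroup (SU 5 F (p ^ f))} (hA : A ≠ ⊤)
    (hd : l ∣ Nat.card A) :
    (p ^ f + 1) * Nat.card A ≤ 5 ^ 2 * ((p ^ f) ^ 5 + 1) ∨ (f = 1 ∧ Nat.card A ≤ 259200) := by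
  rcases odd_gen hF hp hf (by norm_num) (by decide) (by norm_num) hl hA hd with h | ⟨H, hH, hle, hres⟩
  · exact Or.inl h
  · right
    obtain ⟨P, hcore, hqp, hcases⟩ := hL5 (p ^ f) hF H hH hres
    refine ⟨f_one hqp, ?_⟩
    have h1 := card_res_le (by norm_num) hcore (hH.1.le.trans inf_le_right)
    have h2 : Nat.card (MulAut (P ⧸ (scalars (Fin 5) F).subgroupOf P)) ≤ 51840 := by
      rcases hcases with ⟨⟨e⟩, -⟩ | ⟨⟨K, _, _, hK, ⟨e⟩⟩, -⟩
      · rw [Nat.card_congr (MulAut.congr e).toEquiv]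
        exact (Nat.le_of_dvd (by norm_num) H269.U5.card_aut_l211).trans (by norm_num)
      · rw [Nat.card_congr (MulAut.congr e).toEquiv]
        exact Nat.le_of_dvd (by norm_num) (H269.U5.card_aut_u42 hK)
    omega

theorem small7 (hL7 : L7) (hl : Pm p f 7 l) {A : Subgroup (SU 7 F (p ^ f))} (hA : A ≠ ⊤)
    (hd : l ∣ Nat.card A) :
    (p ^ f + 1) * Nat.card A ≤ 7 ^ 2 * ((p ^ f) ^ 7 + 1) ∨ (f = 1 ∧ Nat.card A ≤ 84672) := by
  rcases odd_gen hF hp hf (by norm_num) (by decide) (by norm_num) hl hA hd with h | ⟨H, hH, hle, hres⟩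
  · exact Or.inl h
  · right
    obtain ⟨P, hcore, hqp, -, -, K, _, _, hK, ⟨e⟩⟩ := hL7 (p ^ f) hF H hH hres
    refine ⟨f_one hqp, ?_⟩
    have h1 := card_res_le (by norm_num) hcore (hH.1.le.trans inf_le_right)
    have h2 : Nat.card (MulAut (P ⧸ (scalars (Fin 7) F).subgroupOf P)) ≤ 12096 := by
      rw [Nat.card_congr (MulAut.congr e).toEquiv]
      exact card_aut_u33 hK
    omega

end

end Cfsg.Agent.H533.Reg
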